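import Groth.Agent.InfLift.FOThickBC
import Groth.Agent.AlgSpLib.RepDescent
import Groth.Agent.AlgSpLib.Atlas
import Groth.Agent.AlgSpLib.FpqcProps
import Groth.Agent.AlgSpLib.LocalTarget
import Groth.Agent.AlgSpLib.Sigma

/-!
# First order thickenings of algebraic spaces are detected on an atlas
-/

set_option autoImplicit false
universe u

open CategoryTheory CategoryTheory.Limits AlgebraicGeometry

set_option backward.isDefEq.respectTransparency false

namespace Groth.Agent.UnivThickSpace

open _root_.AlgSp Groth.Agent.AlgSpLib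

variable {S : Scheme.{u}}

/-- a map whose pullback to an atlas is a first order thickening is one -/
theorem isFOThickMor_of_atlas {Z Q : Sp S} (hQ : IsAlgSpace Q) {i : Z ⟶ Q} {V V' : Over S}
    {π : (yon S).obj V' ⟶ Q} (hπ : RepWith @Etale π) (hπs : RepWith @Surjective π) {v : (yon S).obj V ⟶ Z}
    {iV : V ⟶ V'} (sqV : IsPullback v ((yon S).map iV) i π) [IsClosedImmersion iV.left] [Surjective iV.left]
    (hk : iV.left.ker * iV.left.ker = ⊥) : IsFOThickMor i := by
  have : Sheaf.IsLocallySurjective π := isLocallySurjective_of_atlas hπ hπs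
  have hrep : Representable i := representable_of_indQA i (fun T ξ => exists_fppf_lift π ξ) sqV
    ((repWith_yon_iff (P := indQA) iV).2 (indQA_of_isAffineHom iV.left))
  have hth : RepWith thick i := (repWith_inf_iff (P := @IsClosedImmersion) (Q := @Surjective)).2
    ⟨repWith_of_isLocallySurjective hrep sqV ((repWith_yon_iff iV).2 ‹_›),
      repWith_of_isLocallySurjective hrep sqV ((repWith_yon_iff iV).2 ‹_›)⟩
  refine ⟨hth, fun W W₀ b fst u _ _ sqb => ?_⟩
  obtain ⟨W', p, α, sqp⟩ := exists_pullback hQ.diag b π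
  have : Etale p.left := (repWith_yon_iff p).1 (repWith_baseChange sqp.flip hπ)
  have : Surjective p.left := (repWith_yon_iff p).1 (repWith_baseChange sqp.flip hπs)
  have : IsClosedImmersion u.left := (hth.2 b fst u sqb).1
  obtain ⟨W'₀, u', q, sqq⟩ := exists_pullback (IsAlgSpace.yon_obj W).diag ((yon S).map p) ((yon S).map u)
  have hbig : IsPullback ((yon S).map u') ((yon S).map q ≫ fst) ((yon S).map p ≫ b) i :=
    sqq.paste_vert sqb.flip
  obtain ⟨l, hl⟩ := exists_map_eq (sqV.lift ((yon S).map q ≫ fst) ((yon S).map (u' ≫ α)) (by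
    rw [Functor.map_comp, Category.assoc ((yon S).map u'), ← sqp.w, hbig.w]))
  have hl₁ : (yon S).map l ≫ v = (yon S).map q ≫ fst := by rw [hl, sqV.lift_fst]
  have hl₂ : (yon S).map l ≫ (yon S).map iV = (yon S).map u' ≫ (yon S).map α := by
    rw [hl, sqV.lift_snd, Functor.map_comp]
  have sqL : IsPullback ((yon S).map l) ((yon S).map u') ((yon S).map iV) ((yon S).map α) :=
    IsPullback.of_right (by rw [hl₁, ← sqp.w]; exact hbig.flip) hl₂ sqV
  have h1 : u'.left.ker = iV.left.ker.comap α.left := ThickSys.ker_of_isPullback (isPullback_yon_iff.1 sqL).flip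
  have h2 : u'.left.ker = u.left.ker.comap p.left := ThickSys.ker_of_isPullback (isPullback_yon_iff.1 sqq)
  show u.left.ker * u.left.ker = ⊥
  refine EtInvariance.eq_bot_of_comap_eq_bot p.left _ ?_
  rw [← pow_two, ThickSys.comap_pow, ← h2, h1, ← ThickSys.comap_pow, pow_two, hk, Scheme.IdealSheafData.comap_bot]

end Groth.Agent.UnivThickSpace
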