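import Groth.Agent.UnivThickSpace.Rel
import Groth.Agent.UnivThickSpace.Descend
import Groth.Agent.AlgSpLib.Quotient
import Groth.Agent.S10633

/-!
# Universal first order thickenings of formally unramified morphisms of algebraic spaces
-/

set_option autoImplicit false
universe u

open CategoryTheory CategoryTheory.Limits AlgebraicGeometry

set_option backward.isDefEq.respectTransparency false

namespace Groth.Agent.UnivThickSpace

open _root_.AlgSp Groth.Agent.AlgSpLib Groth.Agent.InfLift

variable {S : Scheme.{u}}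

/-- existence of universal thickenings, with the thickening as the quotient of that of an atlas -/
theorem exists_univ {Z X : Sp S} (hZ : IsAlgSpace Z) (hX : IsAlgSpace X) (h : Z ⟶ X)
    (hh : IsFormallyUnramifiedMor h) :
    ∃ (Q : Sp S) (i : Z ⟶ Q) (h' : Q ⟶ X), IsAlgSpace Q ∧ IsUnivFOThick h i h' := by
  obtain ⟨V, V', v, iV, g, hve, hvs, _, _, hk, HU⟩ := exists_chart hZ hX h hh
  obtain ⟨R, r₁, r₂, sqR⟩ := exists_pullback hZ.diag v v
  have : Etale r₁.left := (repWith_yon_iff r₁).1 (repWith_baseChange sqR.flip hve)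
  have : Etale r₂.left := (repWith_yon_iff r₂).1 (repWith_baseChange sqR hve)
  obtain ⟨R', c, a, b, hE, sqA, hcb, hg⟩ := exists_rel hX sqR hk HU
  obtain ⟨hQ, hP⟩ := isPresentation_of_coequalizer hE (isColimitQuotProj b a)
  have hπw := quotProj_condition b a
  have : Sheaf.IsLocallySurjective v := isLocallySurjective_of_atlas hve hvs
  obtain ⟨hcZ⟩ := isColimit_of_isPullback sqR
  have hcQ := isColimitQuotProj b a
  have hyB : (yon S).map c ≫ (yon S).map b = (yon S).map r₂ ≫ (yon S).map iV := by
    rw [← Functor.map_comp, hcb, Functor.map_comp]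
  have hw : (yon S).map r₁ ≫ (yon S).map iV ≫ quotProj b a = (yon S).map r₂ ≫ (yon S).map iV ≫ quotProj b a := by
    rw [sqA.w_assoc, hπw, ← Category.assoc, hyB, Category.assoc]
  let i : Z ⟶ QuotSh.quot Scheme.fppfPrecoverage b a := hcZ.desc (Cofork.ofπ _ hw)
  have hi : v ≫ i = (yon S).map iV ≫ quotProj b a := hcZ.fac _ WalkingParallelPair.one
  let h' : QuotSh.quot Scheme.fppfPrecoverage b a ⟶ X := hcQ.desc (Cofork.ofπ _ hg)
  have hh' : quotProj b a ≫ h' = g := hcQ.fac _ WalkingParallelPair.one
  have : Epi v := (Sheaf.isLocallySurjective_iff_epi _).1 ‹_›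
  have hih : i ≫ h' = h := by
    rw [← cancel_epi v, reassoc_of% hi, hh']
    exact HU.2.1
  -- the atlas of the thickening pulls back to the atlas
  have : Mono ((yon S).map iV) := EtInvariance.mono_of_thick HU.1.1
  let φ : (yon S).obj V ⟶ pullback i (quotProj b a) := pullback.lift v ((yon S).map iV) hi
  have hφ₂ : φ ≫ pullback.snd _ _ = (yon S).map iV := pullback.lift_snd _ _ _
  have : Mono φ := mono_of_mono_fac hφ₂
  have : Epi φ := by
    have sq₂ := IsPullback.of_hasPullback v (pullback.fst i (quotProj b a))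
    have : Sheaf.IsLocallySurjective (pullback.snd v (pullback.fst i (quotProj b a))) :=
      isLocallySurjective_of_isPullback sq₂.flip
    have : Epi (pullback.snd v (pullback.fst i (quotProj b a))) := (Sheaf.isLocallySurjective_iff_epi _).1 ‹_›
    let ρ := hP.isPullback.lift (pullback.fst v (pullback.fst i (quotProj b a)) ≫ (yon S).map iV)
      (pullback.snd v (pullback.fst i (quotProj b a)) ≫ pullback.snd i (quotProj b a)) (by
        rw [Category.assoc, Category.assoc, ← hi, pullback.condition_assoc, pullback.condition])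
    have hρa : ρ ≫ (yon S).map a = _ := hP.isPullback.lift_fst _ _ _
    have hρb : ρ ≫ (yon S).map b = _ := hP.isPullback.lift_snd _ _ _
    let ρ₀ := sqA.lift (pullback.fst v (pullback.fst i (quotProj b a))) ρ hρa.symm
    refine epi_of_epi_fac (f := ρ₀ ≫ (yon S).map r₂) (h := pullback.snd v (pullback.fst i (quotProj b a))) ?_
    refine pullback.hom_ext ?_ ?_
    · rw [Category.assoc, pullback.lift_fst, Category.assoc, ← sqR.w, sqA.lift_fst_assoc, pullback.condition]
    · rw [Category.assoc, pullback.lift_snd, Category.assoc, ← hyB, sqA.lift_snd_assoc, hρb]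
  have : IsIso φ := isIso_of_mono_of_epi φ
  have sqV : IsPullback v ((yon S).map iV) i (quotProj b a) :=
    IsPullback.of_iso_pullback ⟨hi⟩ (asIso φ) (pullback.lift_fst _ _ _) hφ₂
  have hiQ : IsFOThickMor i := isFOThickMor_of_atlas hQ hP.etale hP.surjective sqV hk
  refine ⟨_, i, h', hQ, Groth.Agent.S10633.main (IsAlgSpace.yon_obj V) hZ (isEtaleMor_of_repWith' hve)
    (isSurjectiveMor_of_repWith hvs) hQ hiQ (etale_formallyEtale hP.etale) hi.symm hih ?_⟩
  rw [hh']
  exact HU

end Groth.Agent.UnivThickSpace
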