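import Groth.Agent.OmegaThick.Glue
import Groth.Agent.InfLift.YonThick
import Groth.Agent.InfLift.Charts
import Groth.Agent.InfLift.FOThickBC
import Groth.Agent.S10630
import Groth.Agent.S10631
import Groth.Agent.S10632
import Groth.Agent.EtInvariance.SchemeCase

/-!
# Universal first order thickenings of charts of formally unramified morphisms of algebraic spaces
-/

set_option autoImplicit false
universe u

open CategoryTheory CategoryTheory.Limits AlgebraicGeometry

set_option backward.isDefEq.respectTransparency false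

namespace Groth.Agent.UnivThickSpace

open _root_.AlgSp Groth.Agent.AlgSpLib Groth.Agent.InfLift

variable {S : Scheme.{u}}

/-- maps into a universal thickening are determined by the restriction and the map to the base -/
theorem hom_ext {Z Z' X T T' : Sp S} {h : Z ⟶ X} {i : Z ⟶ Z'} {h' : Z' ⟶ X} (HU : IsUnivFOThick h i h')
    (hT : IsAlgSpace T) (hT' : IsAlgSpace T') {j : T ⟶ T'} (hj : IsFOThickMor j) (a : T ⟶ Z) {l l' : T' ⟶ Z'}
    (hl : j ≫ l = a ≫ i) (hl' : j ≫ l' = a ≫ i) (e : l ≫ h' = l' ≫ h') : l = l' :=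
  (HU.2.2 hT hT' j a (l ≫ h') hj (by rw [← Category.assoc, hl, Category.assoc, HU.2.1])).unique
    ⟨hl, rfl⟩ ⟨hl', e.symm⟩

/-- universal thickenings of schemes are universal among spaces -/
theorem isUnivFOThick_yon {V U : Over S} (ψ : V ⟶ U) {V' : Scheme.{u}} {i : V.left ⟶ V'} {h' : V' ⟶ U.left}
    (hu : OmegaSh.IsUnivThickening ψ.left i h') :
    ∃ (iO : V ⟶ Over.mk (h' ≫ U.hom)) (hO : Over.mk (h' ≫ U.hom) ⟶ U), iO.left = i ∧ hO.left = h' ∧
      IsUnivFOThick ((yon S).map ψ) ((yon S).map iO) ((yon S).map hO) := by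
  obtain ⟨⟨⟨hc, hs⟩, hk⟩, he, huniv⟩ := id hu
  let iO : V ⟶ Over.mk (h' ≫ U.hom) := Over.homMk i (by
    show i ≫ h' ≫ U.hom = V.hom
    rw [← Category.assoc, he, Over.w])
  let hO : Over.mk (h' ≫ U.hom) ⟶ U := Over.homMk h' rfl
  have : IsClosedImmersion iO.left := hc
  have hfo : IsFOThickMor ((yon S).map iO) := isFOThickMor_yon_of_ker iO hk
  have hcomp : (yon S).map iO ≫ (yon S).map hO = (yon S).map ψ := by
    rw [← Functor.map_comp]
    exact congrArg _ (Over.OverMorphism.ext he)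
  refine ⟨iO, hO, rfl, rfl, ?_⟩
  refine (Groth.Agent.S10630.result (Z := ⟨_, IsAlgSpace.yon_obj V⟩) (Z' := ⟨_, IsAlgSpace.yon_obj _⟩)
    (X := ⟨_, IsAlgSpace.yon_obj U⟩) (ObjectProperty.homMk ((yon S).map ψ)) (ObjectProperty.homMk ((yon S).map iO))
    (ObjectProperty.homMk ((yon S).map hO)) hfo (ObjectProperty.hom_ext _ hcomp)).2 fun T T' j hT' hj a b w => ?_
  obtain ⟨a, rfl⟩ := exists_map_eq a
  obtain ⟨b, rfl⟩ := exists_map_eq b
  have w' : j ≫ b = a ≫ ψ := (yon S).map_injective ((Functor.map_comp _ _ _).trans (w.trans (Functor.map_comp _ _ _).symm))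
  obtain ⟨l, ⟨hl1, hl2⟩, hlu⟩ := huniv T.left T'.left j.left b.left a.left
    (isFirstOrderThickening_of_isFOThickMor_yon_map hT' hj) (congrArg (fun k => k.left) w')
  let lO : T' ⟶ Over.mk (h' ≫ U.hom) := Over.homMk l (by
    show l ≫ h' ≫ U.hom = T'.hom
    rw [← Category.assoc, hl2, Over.w])
  refine ⟨(yon S).map lO, ⟨?_, ?_⟩, fun y hy => ?_⟩
  · show (yon S).map j ≫ (yon S).map lO = (yon S).map a ≫ (yon S).map iO
    rw [← Functor.map_comp, ← Functor.map_comp]
    exact congrArg _ (Over.OverMorphism.ext hl1)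
  · show (yon S).map lO ≫ (yon S).map hO = (yon S).map b
    rw [← Functor.map_comp]
    exact congrArg _ (Over.OverMorphism.ext hl2)
  · obtain ⟨y, rfl⟩ := exists_map_eq y
    have h1 : (yon S).map (j ≫ y) = (yon S).map (a ≫ iO) := by
      rw [Functor.map_comp, Functor.map_comp]; exact hy.1
    have h2 : (yon S).map (y ≫ hO) = (yon S).map b := by
      rw [Functor.map_comp]; exact hy.2
    exact congrArg _ (Over.OverMorphism.ext (hlu y.left
      ⟨congrArg (fun k => k.left) ((yon S).map_injective h1), congrArg (fun k => k.left) ((yon S).map_injective h2)⟩))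

/-- universal thickenings stay universal after composing with a formally etale map -/
theorem univ_comp_etale {Z Z' Y X : Sp S} (hZ : IsAlgSpace Z) (hZ' : IsAlgSpace Z') (hY : IsAlgSpace Y)
    (hX : IsAlgSpace X) {h : Z ⟶ Y} {i : Z ⟶ Z'} {h' : Z' ⟶ Y} (g : Y ⟶ X) (HU : IsUnivFOThick h i h')
    (hg : IsFormallyEtaleMor g) : IsUnivFOThick (h ≫ g) i (h' ≫ g) :=
  Groth.Agent.S10631.result (Z := ⟨Z, hZ⟩) (Z' := ⟨Z', hZ'⟩) (Y := ⟨Y, hY⟩) (X := ⟨X, hX⟩)
    (ObjectProperty.homMk h) (ObjectProperty.homMk g) (ObjectProperty.homMk i) (ObjectProperty.homMk h') HU hg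

/-- a formally unramified morphism has a universal thickening on an etale atlas of its source -/
theorem exists_chart {Z X : Sp S} (hZ : IsAlgSpace Z) (hX : IsAlgSpace X) (h : Z ⟶ X)
    (hh : IsFormallyUnramifiedMor h) :
    ∃ (V V' : Over S) (v : (yon S).obj V ⟶ Z) (iV : V ⟶ V') (g : (yon S).obj V' ⟶ X),
      RepWith @Etale v ∧ RepWith @Surjective v ∧ IsClosedImmersion iV.left ∧ Surjective iV.left ∧
        iV.left.ker * iV.left.ker = ⊥ ∧ IsUnivFOThick (v ≫ h) ((yon S).map iV) g := by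
  obtain ⟨U, qU, hqe, hqs⟩ := hX.atlas
  have hP : IsAlgSpace (pullback h qU) :=
    isAlgSpace_of_isPullback_space hX hZ (IsAlgSpace.yon_obj U) (IsPullback.of_hasPullback h qU)
  obtain ⟨V, qV, hVe, hVs⟩ := hP.atlas
  obtain ⟨ψ, hψ⟩ := exists_map_eq (qV ≫ pullback.snd h qU)
  have hv : RepWith @Etale (qV ≫ pullback.fst h qU) :=
    repWith_comp hVe (repWith_baseChange (IsPullback.of_hasPullback h qU).flip hqe)
  have hvs : RepWith @Surjective (qV ≫ pullback.fst h qU) :=
    repWith_comp hVs (repWith_baseChange (IsPullback.of_hasPullback h qU).flip hqs)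
  have comm : (qV ≫ pullback.fst h qU) ≫ h = (yon S).map ψ ≫ qU := by
    rw [Category.assoc, pullback.condition, hψ, Category.assoc]
  have : FormallyUnramified ψ.left := chart_unram hh hv comm
  obtain ⟨V', i, h', hu⟩ := OmegaThick.exists_univThickening (h := ψ.left)
  obtain ⟨iO, hO, rfl, -, HU⟩ := isUnivFOThick_yon ψ hu
  refine ⟨V, _, qV ≫ pullback.fst h qU, iO, (yon S).map hO ≫ qU, hv, hvs, hu.1.1.1, hu.1.1.2, hu.1.2, ?_⟩
  rw [comm]
  exact univ_comp_etale (IsAlgSpace.yon_obj V) (IsAlgSpace.yon_obj _) (IsAlgSpace.yon_obj U) hX qU HU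
    (etale_formallyEtale hqe)

/-- etale maps to the reduced part lift to the universal thickening -/
theorem exists_etale_lift {X : Sp S} (hX : IsAlgSpace X) {R V V' : Over S} {hV : (yon S).obj V ⟶ X}
    {iV : V ⟶ V'} {g : (yon S).obj V' ⟶ X} [IsClosedImmersion iV.left] [Surjective iV.left]
    (HU : IsUnivFOThick hV ((yon S).map iV) g) (r : R ⟶ V) [Etale r.left] :
    ∃ (R' : Over S) (c : R ⟶ R') (a : R' ⟶ V'), Etale a.left ∧ IsPullback r c iV a ∧
      IsUnivFOThick ((yon S).map r ≫ hV) ((yon S).map c) ((yon S).map a ≫ g) := by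
  obtain ⟨W, a, c, ha, sq⟩ := EtInvariance.exists_descend_scheme iV.left r.left
  let aO : Over.mk (a ≫ V'.hom) ⟶ V' := Over.homMk a rfl
  let cO : R ⟶ Over.mk (a ≫ V'.hom) := Over.homMk c (by
    show c ≫ a ≫ V'.hom = R.hom
    rw [← Category.assoc, ← sq.w, Category.assoc, Over.w iV, Over.w r])
  have sqY : IsPullback ((yon S).map r) ((yon S).map cO) ((yon S).map iV) ((yon S).map aO) :=
    isPullback_yon_iff.2 sq
  refine ⟨_, cO, aO, ha, IsPullback.of_map (yon S) (Over.OverMorphism.ext sq.w) sqY, ?_⟩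
  have : Etale aO.left := ha
  exact Groth.Agent.S10632.result (Z := ⟨_, IsAlgSpace.yon_obj R⟩) (Y := ⟨_, IsAlgSpace.yon_obj V⟩)
    (Y' := ⟨_, IsAlgSpace.yon_obj V'⟩) (Z' := ⟨_, IsAlgSpace.yon_obj _⟩) (X := ⟨X, hX⟩)
    (ObjectProperty.homMk ((yon S).map r)) ((isEtaleMor_yon_map_iff r).2 ‹_›) (ObjectProperty.homMk hV)
    (ObjectProperty.homMk ((yon S).map iV)) (ObjectProperty.homMk g) HU (ObjectProperty.homMk ((yon S).map cO))
    (ObjectProperty.homMk ((yon S).map aO)) ((isEtaleMor_yon_map_iff aO).2 ‹_›) sqY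

end Groth.Agent.UnivThickSpace
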