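import Groth.Agent.UnivThickSpace.Chart
import Groth.Agent.AlgSpLib.Quot
import Groth.Agent.AlgSpLib.Space

/-!
# The etale equivalence relation on the universal thickening of an atlas
-/

set_option autoImplicit false
universe u

open CategoryTheory CategoryTheory.Limits AlgebraicGeometry

set_option backward.isDefEq.respectTransparency false

namespace Groth.Agent.UnivThickSpace

open _root_.AlgSp Groth.Agent.AlgSpLib Groth.Agent.InfLift

variable {S : Scheme.{u}}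

/-- the universal thickening of the relation of an atlas is an etale equivalence relation -/
theorem exists_rel {Z X : Sp S} (hX : IsAlgSpace X) {h : Z ⟶ X} {R V V' : Over S} {v : (yon S).obj V ⟶ Z}
    {r₁ r₂ : R ⟶ V} (sqR : IsPullback ((yon S).map r₁) ((yon S).map r₂) v v) [Etale r₁.left] [Etale r₂.left]
    {iV : V ⟶ V'} [IsClosedImmersion iV.left] [Surjective iV.left] (hk : iV.left.ker * iV.left.ker = ⊥)
    {g : (yon S).obj V' ⟶ X} (HU : IsUnivFOThick (v ≫ h) ((yon S).map iV) g) :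
    ∃ (R' : Over S) (c : R ⟶ R') (a b : R' ⟶ V'), IsEtaleEqvRel b a ∧
      IsPullback ((yon S).map r₁) ((yon S).map c) ((yon S).map iV) ((yon S).map a) ∧
      c ≫ b = r₂ ≫ iV ∧ (yon S).map a ≫ g = (yon S).map b ≫ g := by
  have hX' := hX
  obtain ⟨R', c, a, ha, sqA, HA⟩ := exists_etale_lift hX HU r₁
  obtain ⟨R₂, c₂, a₂, ha₂, sqA₂, HA₂⟩ := exists_etale_lift hX HU r₂
  have hr : (yon S).map r₁ ≫ v ≫ h = (yon S).map r₂ ≫ v ≫ h := sqR.w_assoc h
  rw [hr] at HA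
  -- the comparison of the two thickenings of the relation
  obtain ⟨e₀, ⟨he1, he2⟩, -⟩ := HA₂.2.2 (IsAlgSpace.yon_obj R) (IsAlgSpace.yon_obj R') _ (𝟙 _)
    ((yon S).map a ≫ g) HA.1 (by rw [Category.id_comp, HA.2.1])
  obtain ⟨f₀, ⟨hf1, hf2⟩, -⟩ := HA.2.2 (IsAlgSpace.yon_obj R) (IsAlgSpace.yon_obj R₂) _ (𝟙 _)
    ((yon S).map a₂ ≫ g) HA₂.1 (by rw [Category.id_comp, HA₂.2.1])
  rw [Category.id_comp] at he1 hf1
  have hef : e₀ ≫ f₀ = 𝟙 _ := hom_ext HA (IsAlgSpace.yon_obj R) (IsAlgSpace.yon_obj R') HA.1 (𝟙 _)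
    (by rw [reassoc_of% he1, hf1, Category.id_comp]) (by rw [Category.comp_id, Category.id_comp])
    (by rw [Category.assoc, hf2, he2, Category.id_comp])
  have hfe : f₀ ≫ e₀ = 𝟙 _ := hom_ext HA₂ (IsAlgSpace.yon_obj R) (IsAlgSpace.yon_obj R₂) HA₂.1 (𝟙 _)
    (by rw [reassoc_of% hf1, he1, Category.id_comp]) (by rw [Category.comp_id, Category.id_comp])
    (by rw [Category.assoc, he2, hf2, Category.id_comp])
  obtain ⟨e, rfl⟩ := exists_map_eq e₀
  obtain ⟨f, rfl⟩ := exists_map_eq f₀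
  have : IsIso e := ⟨f, (yon S).map_injective (by rw [Functor.map_comp, hef, CategoryTheory.Functor.map_id]),
    (yon S).map_injective (by rw [Functor.map_comp, hfe, CategoryTheory.Functor.map_id])⟩
  have : IsIso e.left := inferInstanceAs (IsIso ((Over.forget S).map e))
  have hce : c ≫ e = c₂ := (yon S).map_injective (by rw [Functor.map_comp, he1])
  have hcb : c ≫ e ≫ a₂ = r₂ ≫ iV := by rw [← Category.assoc, hce, ← sqA₂.w]
  have hg : (yon S).map a ≫ g = (yon S).map (e ≫ a₂) ≫ g := by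
    rw [Functor.map_comp, Category.assoc, he2]
  have sqB : IsPullback r₂ c iV (e ≫ a₂) :=
    sqA₂.of_iso (Iso.refl R) (Iso.refl V) (asIso e).symm (Iso.refl V') (by simp)
      (by rw [Iso.symm_hom, asIso_inv, Iso.refl_hom, Category.id_comp, ← hce, Category.assoc, IsIso.hom_inv_id,
        Category.comp_id])
      (by simp) (by simp)
  obtain ⟨b, hb⟩ : ∃ b, b = e ≫ a₂ := ⟨_, rfl⟩
  rw [← hb] at hg hcb sqB
  have hbe : Etale b.left := by
    rw [hb, Over.comp_left]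
    exact MorphismProperty.comp_mem @Etale e.left a₂.left inferInstance ha₂
  have hyA : IsPullback ((yon S).map r₁) ((yon S).map c) ((yon S).map iV) ((yon S).map a) :=
    sqA.map (yon S)
  have hyB : IsPullback ((yon S).map r₂) ((yon S).map c) ((yon S).map iV) ((yon S).map b) :=
    sqB.map (yon S)
  have : IsClosedImmersion iV.left := ‹_›
  have hiV : IsFOThickMor ((yon S).map iV) := HU.1
  have : Mono ((yon S).map iV) := EtInvariance.mono_of_thick hiV.1
  have hua : IsFormallyUnramifiedMor ((yon S).map a) :=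
    (etale_iff.1 (etale_formallyEtale ((repWith_yon_iff a).2 ha))).2
  have hRsp := IsAlgSpace.yon_obj (S := S) R
  have hVsp := IsAlgSpace.yon_obj (S := S) V
  have hV'sp := IsAlgSpace.yon_obj (S := S) V'
  -- reflexivity
  obtain ⟨δ', hδ1, hδ2⟩ : ∃ δ : (yon S).obj V' ⟶ (yon S).obj R',
      δ ≫ (yon S).map a = 𝟙 _ ∧ δ ≫ (yon S).map b = 𝟙 _ := by
    let δ := sqR.lift (𝟙 _) (𝟙 _) rfl
    have hδr₁ : δ ≫ (yon S).map r₁ = 𝟙 _ := sqR.lift_fst _ _ _
    have hδr₂ : δ ≫ (yon S).map r₂ = 𝟙 _ := sqR.lift_snd _ _ _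
    obtain ⟨δ', ⟨h1, h2⟩, -⟩ := HA.2.2 hVsp hV'sp _ δ g hiV (by
      rw [HU.2.1, reassoc_of% hδr₂])
    refine ⟨δ', hom_ext HU hVsp hV'sp hiV (𝟙 _) ?_ ?_ ?_, hom_ext HU hVsp hV'sp hiV (𝟙 _) ?_ ?_ ?_⟩
    · rw [reassoc_of% h1, ← hyA.w, reassoc_of% hδr₁, Category.id_comp]
    · rw [Category.comp_id, Category.id_comp]
    · rw [Category.assoc, h2, Category.id_comp]
    · rw [reassoc_of% h1, ← hyB.w, reassoc_of% hδr₂, Category.id_comp]
    · rw [Category.comp_id, Category.id_comp]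
    · rw [Category.assoc, ← hg, h2, Category.id_comp]
  -- symmetry
  obtain ⟨σ', hσ1, hσ2⟩ : ∃ σ : (yon S).obj R' ⟶ (yon S).obj R',
      σ ≫ (yon S).map a = (yon S).map b ∧ σ ≫ (yon S).map b = (yon S).map a := by
    let σ := sqR.lift ((yon S).map r₂) ((yon S).map r₁) sqR.w.symm
    have hσr₁ : σ ≫ (yon S).map r₁ = (yon S).map r₂ := sqR.lift_fst _ _ _
    have hσr₂ : σ ≫ (yon S).map r₂ = (yon S).map r₁ := sqR.lift_snd _ _ _
    obtain ⟨σ', ⟨h1, h2⟩, -⟩ := HA.2.2 hRsp (IsAlgSpace.yon_obj R') _ σ ((yon S).map a ≫ g) HA.1 (by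
      rw [reassoc_of% hσr₂, HA.2.1, hr])
    refine ⟨σ', hom_ext HU hRsp (IsAlgSpace.yon_obj R') HA.1 ((yon S).map r₂) ?_ hyB.w.symm ?_,
      hom_ext HU hRsp (IsAlgSpace.yon_obj R') HA.1 ((yon S).map r₁) ?_ hyA.w.symm ?_⟩
    · rw [reassoc_of% h1, ← hyA.w, reassoc_of% hσr₁]
    · rw [Category.assoc, h2, hg]
    · rw [reassoc_of% h1, ← hyB.w, reassoc_of% hσr₂]
    · rw [Category.assoc, ← hg, h2]
  -- transitivity
  obtain ⟨P, p₁, p₂, sqP⟩ := exists_pullback hV'sp.diag ((yon S).map b) ((yon S).map a)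
  obtain ⟨μ, hμ1, hμ2⟩ : ∃ μ : (yon S).obj P ⟶ (yon S).obj R',
      μ ≫ (yon S).map a = (yon S).map p₁ ≫ (yon S).map a ∧ μ ≫ (yon S).map b = (yon S).map p₂ ≫ (yon S).map b := by
    have sq₀ := IsPullback.of_hasPullback ((yon S).map iV) ((yon S).map p₁ ≫ (yon S).map b)
    have hP₀ : IsAlgSpace (pullback ((yon S).map iV) ((yon S).map p₁ ≫ (yon S).map b)) :=
      isAlgSpace_of_isPullback_space hV'sp hVsp (IsAlgSpace.yon_obj P) sq₀
    let jP := pullback.snd ((yon S).map iV) ((yon S).map p₁ ≫ (yon S).map b)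
    let gP := pullback.fst ((yon S).map iV) ((yon S).map p₁ ≫ (yon S).map b)
    have hjP : IsFOThickMor jP := foThick_baseChange_space hV'sp sq₀.flip hiV
    let l₁ := hyB.lift gP (jP ≫ (yon S).map p₁) (by rw [Category.assoc]; exact sq₀.w)
    let l₂ := hyA.lift gP (jP ≫ (yon S).map p₂) (by rw [Category.assoc, ← sqP.w]; exact sq₀.w)
    have h₁r : l₁ ≫ (yon S).map r₂ = gP := hyB.lift_fst _ _ _
    have h₁c : l₁ ≫ (yon S).map c = jP ≫ (yon S).map p₁ := hyB.lift_snd _ _ _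
    have h₂r : l₂ ≫ (yon S).map r₁ = gP := hyA.lift_fst _ _ _
    have h₂c : l₂ ≫ (yon S).map c = jP ≫ (yon S).map p₂ := hyA.lift_snd _ _ _
    let m := sqR.lift (l₁ ≫ (yon S).map r₁) (l₂ ≫ (yon S).map r₂) (by
      rw [Category.assoc, Category.assoc, sqR.w, reassoc_of% h₁r, ← sqR.w, reassoc_of% h₂r])
    have hm₁ : m ≫ (yon S).map r₁ = l₁ ≫ (yon S).map r₁ := sqR.lift_fst _ _ _
    have hm₂ : m ≫ (yon S).map r₂ = l₂ ≫ (yon S).map r₂ := sqR.lift_snd _ _ _
    obtain ⟨μ, ⟨h1, h2⟩, -⟩ := HA.2.2 hP₀ (IsAlgSpace.yon_obj P) jP m ((yon S).map p₁ ≫ (yon S).map a ≫ g) hjP (by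
      rw [← Category.assoc jP, ← h₁c, Category.assoc, HA.2.1, ← hr, ← Category.assoc, ← hm₁, Category.assoc])
    refine ⟨μ, hom_ext HU hP₀ (IsAlgSpace.yon_obj P) hjP (l₁ ≫ (yon S).map r₁) ?_ ?_ ?_,
      hom_ext HU hP₀ (IsAlgSpace.yon_obj P) hjP (l₂ ≫ (yon S).map r₂) ?_ ?_ ?_⟩
    · rw [reassoc_of% h1, ← hyA.w, reassoc_of% hm₁, Category.assoc]
    · rw [← Category.assoc jP, ← h₁c, Category.assoc, ← hyA.w, Category.assoc]
    · rw [Category.assoc, h2, Category.assoc]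
    · rw [reassoc_of% h1, ← hyB.w, reassoc_of% hm₂, Category.assoc]
    · rw [← Category.assoc jP, ← h₂c, Category.assoc, ← hyB.w, Category.assoc]
    · rw [Category.assoc, ← hg, h2, Category.assoc, ← hg, hg, sqP.w_assoc, ← hg]
  obtain ⟨δ', rfl⟩ := exists_map_eq δ'
  obtain ⟨σ', rfl⟩ := exists_map_eq σ'
  obtain ⟨μ, rfl⟩ := exists_map_eq μ
  simp only [← Functor.map_comp, ← CategoryTheory.Functor.map_id, (yon S).map_injective.eq_iff] at hδ1 hδ2 hσ1 hσ2 hμ1 hμ2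
  refine ⟨R', c, a, b, ⟨⟨fun T x x' e₁ e₂ => (yon S).map_injective ?_, fun T => ⟨fun x => ?_, ?_, ?_⟩⟩, hbe, ha⟩,
    hyA, hcb, hg⟩
  · have sq₀ := IsPullback.of_hasPullback ((yon S).map iV) ((yon S).map x ≫ (yon S).map a)
    let j := pullback.snd ((yon S).map iV) ((yon S).map x ≫ (yon S).map a)
    let g₀ := pullback.fst ((yon S).map iV) ((yon S).map x ≫ (yon S).map a)
    have e₁' : (yon S).map x ≫ (yon S).map a = (yon S).map x' ≫ (yon S).map a := by
      rw [← Functor.map_comp, ← Functor.map_comp, e₁]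
    have e₂' : (yon S).map x ≫ (yon S).map b = (yon S).map x' ≫ (yon S).map b := by
      rw [← Functor.map_comp, ← Functor.map_comp, e₂]
    let l := hyA.lift g₀ (j ≫ (yon S).map x) (by rw [Category.assoc]; exact sq₀.w)
    let l' := hyA.lift g₀ (j ≫ (yon S).map x') (by rw [Category.assoc, ← e₁']; exact sq₀.w)
    have hl : l = l' := sqR.hom_ext (by rw [hyA.lift_fst, hyA.lift_fst]) (by
      rw [← cancel_mono ((yon S).map iV), Category.assoc, Category.assoc, hyB.w, hyA.lift_snd_assoc,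
        hyA.lift_snd_assoc, Category.assoc, Category.assoc, e₂'])
    refine space_lift_unique (IsAlgSpace.yon_obj T) hua (foThick_baseChange_space hV'sp sq₀.flip hiV) ?_ e₁'
    exact ((hyA.lift_snd g₀ _ _).symm.trans (congrArg (· ≫ (yon S).map c) hl)).trans (hyA.lift_snd g₀ _ _)
  · exact ⟨x ≫ δ', by rw [Category.assoc, hδ1, Category.comp_id], by rw [Category.assoc, hδ2, Category.comp_id]⟩
  · rintro x y ⟨r, h1, h2⟩
    exact ⟨r ≫ σ', by rw [Category.assoc, hσ1, h2], by rw [Category.assoc, hσ2, h1]⟩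
  · rintro x y z ⟨r, h1, h2⟩ ⟨r', h3, h4⟩
    obtain ⟨w, hw⟩ := exists_map_eq (sqP.lift ((yon S).map r) ((yon S).map r') (by
      rw [← Functor.map_comp, ← Functor.map_comp, h2, h3]))
    have w₁ : w ≫ p₁ = r := (yon S).map_injective (by rw [Functor.map_comp, hw, sqP.lift_fst])
    have w₂ : w ≫ p₂ = r' := (yon S).map_injective (by rw [Functor.map_comp, hw, sqP.lift_snd])
    exact ⟨w ≫ μ, by rw [Category.assoc, hμ1, reassoc_of% w₁, h1], by rw [Category.assoc, hμ2, reassoc_of% w₂, h4]⟩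

end Groth.Agent.UnivThickSpace
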